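import Cfsg.Agent.Lib.Block.KiyotaOkuyama.Quotient
import Cfsg.Agent.Lib.Block.PSolvableHeight
import Cfsg.Agent.Lib.HallHigman.Solvable
import Cfsg.Agent.Lib.Hall.Basic

/-!
# Sets of characters with idempotent vanishing off the regular elements in `p`-solvable groups

The theorem of Kiyota and Okuyama: such a set is a union of blocks.  Reduction to the inertia
groups of the characters of `O_{p'}(G)`, then to a central extension of `G / O_{p'}(G)` through the
lifting group of an invariant character, then to the quotient by a normal `p`-subgroup.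
-/

set_option autoImplicit false
set_option linter.unusedSectionVars false
set_option linter.style.haveILetI false

namespace Cfsg.Agent.Lib.Block.KiyotaOkuyama

open Cfsg Cfsg.Agent.Lib Cfsg.Agent.Lib.Block Cfsg.Agent.Lib.CharClifford
open MonoidAlgebra (single)

universe u

variable {p : ℕ} [Fact p.Prime] {M : Ideal AlgInt} [M.IsPrime] {G : Type u} [Group G] [Finite G]

/-- The inductive hypothesis. -/
def Below (p : ℕ) (M : Ideal AlgInt) [M.IsPrime] (m : ℕ) : Prop :=
  ∀ (H : Type u) [Group H] [Finite H], IsPSolvable p H → (pPrimeCore p H).index < m →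
    ∀ U : Set (IrrCharacter H), RegSupp p U → IntR M (eIdem U)

section Lifting

variable {N : Subgroup G} [N.Normal] {d : ℕ} (ρ : Representation ℂ N (Fin d → ℂ))

/-- The lifting group with determinants of order dividing the order of `N`. -/
noncomputable def smallLift : Subgroup (liftGroup ρ) :=
  ((powMonoidHom (Nat.card N)).comp (detHom (liftRep ρ))).ker

theorem mem_smallLift {γ : liftGroup ρ} :
    γ ∈ smallLift ρ ↔ LinearMap.det (liftRep ρ γ) ^ Nat.card N = 1 := by
  rw [smallLift, MonoidHom.mem_ker, MonoidHom.comp_apply, powMonoidHom_apply, Units.ext_iff,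
    Units.val_pow_eq_pow_val, detHom_apply, Units.val_one]

/-- The projection of the small lifting group. -/
noncomputable def sproj : smallLift ρ →* G := (proj ρ).comp (smallLift ρ).subtype

/-- The tautological representation of the small lifting group. -/
noncomputable def srep : Representation ℂ (smallLift ρ) (Fin d → ℂ) :=
  MonoidHom.comp (liftRep ρ) (smallLift ρ).subtype

theorem srep_apply (γ : smallLift ρ) : srep ρ γ = liftRep ρ γ := rfl

/-- The embedding of `N` in the small lifting group. -/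
noncomputable def semb : N →* smallLift ρ :=
  (CharClifford.emb ρ).codRestrict _ fun n => (mem_smallLift ρ).2 (by
    rw [liftRep_emb, ← map_pow, ← map_pow, pow_card_eq_one', map_one, map_one])

theorem sproj_semb (n : N) : sproj ρ (semb ρ n) = n := rfl

theorem srep_semb (n : N) : srep ρ (semb ρ n) = ρ n := rfl

theorem semb_injective : Function.Injective (semb ρ) := fun a b h =>
  Subtype.ext (congrArg (sproj ρ) h :)

theorem smallLift_ext {γ δ : smallLift ρ} (h1 : sproj ρ γ = sproj ρ δ) (h2 : srep ρ γ = srep ρ δ) :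
    γ = δ := Subtype.ext (liftGroup_ext ρ h1 h2)

variable [hirr : ρ.IsIrreducible]

theorem sproj_surjective
    (hinv : ∀ (g : G) (n : N), ρ.character (MulAut.conjNormal g n) = ρ.character n) :
    Function.Surjective (sproj ρ) := by
  intro g
  obtain ⟨⟨⟨g', A⟩, hA1, hA2⟩, rfl⟩ := proj_surjective ρ hinv g
  set δ := LinearMap.det (A : Module.End ℂ (Fin d → ℂ)) with hδ
  have hδ0 : δ ≠ 0 := fun h => by
    have h2 : δ ^ Nat.card G = 1 := hA2
    rw [h, zero_pow Nat.card_pos.ne'] at h2
    exact zero_ne_one h2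
  obtain ⟨c, hc⟩ := IsAlgClosed.exists_pow_nat_eq (δ ^ Nat.card N)⁻¹
    (Nat.mul_pos (d_pos ρ) (Nat.card_pos (α := N)))
  have hc0 : c ≠ 0 := fun h => by
    rw [h, zero_pow (Nat.mul_pos (d_pos ρ) (Nat.card_pos (α := N))).ne'] at hc
    exact inv_ne_zero (pow_ne_zero _ hδ0) hc.symm
  set B : (Module.End ℂ (Fin d → ℂ))ˣ :=
    Units.map (algebraMap ℂ (Module.End ℂ (Fin d → ℂ))).toMonoidHom (Units.mk0 c hc0) * A with hB
  have hBv : (B : Module.End ℂ (Fin d → ℂ)) = c • (A : Module.End ℂ (Fin d → ℂ)) := by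
    rw [hB, Units.val_mul, Units.coe_map]
    exact (Algebra.smul_def c _).symm
  have hdet : LinearMap.det (B : Module.End ℂ (Fin d → ℂ)) = c ^ d * δ := by
    rw [hBv, LinearMap.det_smul, Module.finrank_fin_fun]
  have hN1 : LinearMap.det (B : Module.End ℂ (Fin d → ℂ)) ^ Nat.card N = 1 := by
    rw [hdet, mul_pow, ← pow_mul, hc, inv_mul_cancel₀ (pow_ne_zero _ hδ0)]
  have hmem : (g', B) ∈ liftGroup ρ := by
    refine ⟨fun n => ?_, ?_⟩
    · show (B : Module.End ℂ (Fin d → ℂ)) * ρ n = ρ (MulAut.conjNormal g' n) * B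
      rw [hBv, smul_mul_assoc, mul_smul_comm]
      exact congrArg (c • ·) (hA1 n)
    · show LinearMap.det (B : Module.End ℂ (Fin d → ℂ)) ^ Nat.card G = 1
      rw [← N.card_mul_index, pow_mul, hN1, one_pow]
  exact ⟨⟨⟨(g', B), hmem⟩, (mem_smallLift ρ).2 hN1⟩, rfl⟩

/-- The kernel of the projection consists of scalars. -/
theorem sproj_ker_scalar {γ : smallLift ρ} (h : sproj ρ γ = 1) :
    ∃ c : ℂ, srep ρ γ = c • 1 ∧ c ^ (d * Nat.card N) = 1 := by
  obtain ⟨c, hc⟩ := exists_smul_of_commute ρ (srep ρ γ) fun n => by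
    have h1 := liftRep_comm ρ (γ : liftGroup ρ) n
    rw [show proj ρ (γ : liftGroup ρ) = 1 from h, map_one, MulAut.one_apply] at h1
    exact h1
  refine ⟨c, hc, ?_⟩
  have h1 := (mem_smallLift ρ).1 γ.2
  rw [← srep_apply, hc, LinearMap.det_smul, Module.finrank_fin_fun, map_one, mul_one, ← pow_mul] at h1
  exact h1

theorem sproj_ker_le_center {γ : smallLift ρ} (h : sproj ρ γ = 1) (δ : smallLift ρ) :
    δ * γ = γ * δ := by
  obtain ⟨c, hc, -⟩ := sproj_ker_scalar ρ h
  refine smallLift_ext ρ ?_ ?_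
  · rw [map_mul, map_mul, h, mul_one, one_mul]
  · rw [map_mul, map_mul, hc, mul_smul_comm, smul_mul_assoc, mul_one, one_mul]

theorem not_dvd_card_sproj_ker (hd : ¬ p ∣ d) (hN : ¬ p ∣ Nat.card N) :
    ¬ p ∣ Nat.card (sproj ρ).ker := by
  have hpp : p.Prime := Fact.out
  haveI := finite_liftGroup ρ
  intro hdvd
  obtain ⟨⟨γ, hγ⟩, hord⟩ := exists_prime_orderOf_dvd_card' p hdvd
  obtain ⟨c, hc, hc1⟩ := sproj_ker_scalar ρ (MonoidHom.mem_ker.1 hγ)
  rw [Subgroup.orderOf_mk] at hord
  have h1 : γ ^ (d * Nat.card N) = 1 := by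
    refine smallLift_ext ρ ?_ ?_
    · rw [map_pow, MonoidHom.mem_ker.1 hγ, one_pow, map_one]
    · rw [map_pow, hc, smul_pow, one_pow, hc1, one_smul, map_one]
  have h2 := orderOf_dvd_of_pow_eq_one h1
  rw [hord] at h2
  exact (hpp.dvd_mul.1 h2).elim hd hN

theorem semb_conj (γ : smallLift ρ) (n : N) :
    γ * semb ρ n * γ⁻¹ = semb ρ (MulAut.conjNormal (sproj ρ γ) n) := by
  rw [mul_inv_eq_iff_eq_mul]
  refine smallLift_ext ρ ?_ ?_
  · rw [map_mul, map_mul, sproj_semb, sproj_semb, MulAut.conjNormal_apply, inv_mul_cancel_right]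
  · rw [map_mul, map_mul, srep_semb, srep_semb]
    exact liftRep_comm ρ (γ : liftGroup ρ) n

instance semb_range_normal : (semb ρ).range.Normal :=
  ⟨fun x hx γ => by
    obtain ⟨n, rfl⟩ := hx
    exact ⟨_, (semb_conj ρ γ n).symm⟩⟩

/-- Every coset of `N` carries a nonzero value of the character of the lifting group. -/
theorem exists_trace_ne_zero (γ : smallLift ρ) :
    ∃ n : N, (srep ρ).character (γ * semb ρ n) ≠ 0 := by
  classical
  haveI := Fintype.ofFinite N
  by_contra! h
  obtain ⟨z, hz⟩ := CyclicDefect.asAlgebraHom_surjective ρ (srep ρ γ⁻¹)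
  have h0 : LinearMap.trace ℂ _ (srep ρ γ * ρ.asAlgebraHom z) = 0 := by
    rw [eq_sum_single z, map_sum, Finset.mul_sum, map_sum]
    refine Finset.sum_eq_zero fun n _ => ?_
    rw [Representation.asAlgebraHom_single, mul_smul_comm, map_smul, ← srep_semb ρ n,
      ← map_mul (srep ρ)]
    exact (congrArg _ (h n)).trans (smul_zero _)
  rw [hz, ← map_mul, mul_inv_cancel, map_one, LinearMap.trace_one, Module.finrank_fin_fun,
    Nat.cast_eq_zero] at h0
  exact (d_pos ρ).ne' h0

end Lifting

/-- A singular element times an element of a normal `p'`-subgroup is singular. -/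
theorem singular_mul {N : Subgroup G} [N.Normal] (hN : ¬ p ∣ Nat.card N) {x n : G} (hn : n ∈ N)
    (hx : p ∣ orderOf x) : p ∣ orderOf (x * n) := by
  have hpp : p.Prime := Fact.out
  by_contra hreg
  set o := orderOf (x * n) with ho
  have h1 : x ^ o ∈ N := by
    rw [← QuotientGroup.eq_one_iff, QuotientGroup.mk_pow,
      show (QuotientGroup.mk x : G ⧸ N) = QuotientGroup.mk (x * n) from
        (QuotientGroup.mk_mul_of_mem x hn).symm, ← QuotientGroup.mk_pow, ho, pow_orderOf_eq_one,
      QuotientGroup.mk_one]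
  have h2 : orderOf x ∣ o * Nat.card N := orderOf_dvd_of_pow_eq_one (by
    rw [pow_mul]
    exact congrArg Subtype.val (pow_card_eq_one' (x := (⟨x ^ o, h1⟩ : N))))
  exact (hpp.dvd_mul.1 (hx.trans h2)).elim hreg hN

open scoped Classical in
/-- The product with an element supported on a normal `p'`-subgroup vanishes at singular elements. -/
theorem coeff_mul_eq_zero {N : Subgroup G} [N.Normal] (hN : ¬ p ∣ Nat.card N)
    {U : Set (IrrCharacter G)} (hU : RegSupp p U) {e : MonoidAlgebra ℂ G}
    (he : ∀ x, x ∉ N → e.coeff x = 0) {x : G} (hx : p ∣ orderOf x) :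
    (eIdem U * e).coeff x = 0 := by
  haveI := Fintype.ofFinite G
  rw [eq_sum_single e, Finset.mul_sum, coeff_sum_apply]
  refine Finset.sum_eq_zero fun n _ => ?_
  rw [MonoidAlgebra.coeff_mul_single_apply, coeff_eIdem]
  by_cases hn : n ∈ N
  · rw [hU _ (singular_mul hN (inv_mem hn) hx), zero_mul]
  · rw [he n hn, mul_zero]

/-- A nontrivial `p`-solvable group without normal `p'`-subgroup has a normal `p`-subgroup. -/
theorem pCore_ne_bot_of_pSolvable (hs : IsPSolvable p G) (hred : pPrimeCore p G = ⊥)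
    (hnt : Nat.card G ≠ 1) : pCore p G ≠ ⊥ := fun h => by
  have hC := LocalFusion.centralizer_pCore_le_of_isPSolvable hs hred
  rw [h] at hC
  refine hnt (Subgroup.card_bot (G := G) ▸ ?_)
  rw [← Subgroup.card_top (G := G)]
  refine congrArg (fun S : Subgroup G => Nat.card S) ?_
  refine eq_bot_iff.2 fun x _ => hC (Subgroup.mem_centralizer_iff.2 fun y hy => ?_)
  rw [Subgroup.mem_bot.1 hy, one_mul, mul_one]

set_option maxHeartbeats 1000000 in
/-- The invariant case. -/
theorem intR_of_invariant (hM : IsPModular p M) (hsolv : IsPSolvable p G) (N : Subgroup G)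
    [N.Normal] [Fintype N] (hpN : ¬ p ∣ Nat.card N) (hred : pPrimeCore p (G ⧸ N) = ⊥)
    (hidx : N.index ≠ 1) (IH : Below.{u} p M N.index) (θ : IrrCharacter N)
    (hinv : ∀ g : G, Char.conjChar N g (θ : N → ℂ) = θ) {U : Set (IrrCharacter G)}
    (hU : RegSupp p U)
    (hover : ∀ χ ∈ U, classInner (fun n : N => (χ : G → ℂ) n) (θ : N → ℂ) ≠ 0) :
    IntR M (eIdem U) := by
  classical
  obtain ⟨d, ρ, hρ, hρθ⟩ := θ.2
  haveI := hρ
  haveI := finite_liftGroup ρ
  have hinv' : ∀ (g : G) (n : N), ρ.character (MulAut.conjNormal g n) = ρ.character n := fun g n => by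
    rw [hρθ]
    exact (conjChar_eq_iff g).1 (hinv g) n
  have hdN : d ∣ Nat.card N := by
    have h1 : (θ : N → ℂ) 1 = (d : ℂ) := by
      rw [← hρθ, Representation.char_one, Module.finrank_fin_fun]
    rw [irr_one_eq_natCast, Nat.cast_inj] at h1
    exact h1 ▸ Char.charDegree_dvd_card θ.2
  set π := sproj ρ with hπ
  have hπs : Function.Surjective π := sproj_surjective ρ hinv'
  have hK : ¬ p ∣ Nat.card π.ker := not_dvd_card_sproj_ker ρ (fun h => hpN (h.trans hdN)) hpN
  set L := (semb ρ).range with hL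
  haveI : L.Normal := semb_range_normal ρ
  haveI := Fintype.ofFinite L
  haveI := Fintype.ofFinite (smallLift ρ)
  haveI := Fintype.ofFinite (smallLift ρ ⧸ L)
  haveI := Fintype.ofFinite G
  -- the character of the lifting group
  set τ : smallLift ρ → ℂ := (srep ρ).character with hτ
  have hτc : IsCharacter (smallLift ρ) τ := Char.isCharacter_character _
  set e := MonoidHom.ofInjective (semb_injective ρ) with he
  set θL : L → ℂ := fun l => τ l with hθL
  have hθLe : θL = (θ : N → ℂ) ∘ e.symm := funext fun l => by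
    obtain ⟨n, rfl⟩ := e.surjective l
    rw [Function.comp_apply, MulEquiv.symm_apply_apply, ← hρθ]
    rfl
  have hθLi : IsIrrCharacter L θL := hθLe ▸ CharClifford.isIrrCharacter_comp_equiv e.symm θ.2
  -- the associated characters
  have hassoc : ∀ χ ∈ U, ∃ β : IrrCharacter (smallLift ρ ⧸ L),
      ∀ γ, (χ : G → ℂ) (π γ) = (β : smallLift ρ ⧸ L → ℂ) (QuotientGroup.mk γ) * τ γ := by
    intro χ hχ
    have hξ : IsIrrCharacter (smallLift ρ) ((χ : G → ℂ) ∘ π) :=
      Char.isIrrCharacter_comp χ.2 π hπs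
    obtain ⟨β, hβ, hβL, heq⟩ := gallagher_exists L hθLi hτc (fun _ => rfl) hξ (by
      rw [hθLe]
      have h1 := CharClifford.classInner_comp_equiv e.symm (fun n : N => (χ : G → ℂ) n) (θ : N → ℂ)
      rw [show (fun n : N => (χ : G → ℂ) n) ∘ e.symm = fun l : L => ((χ : G → ℂ) ∘ π) l from
        funext fun l => by
          obtain ⟨n, rfl⟩ := e.surjective l
          rw [Function.comp_apply, MulEquiv.symm_apply_apply]
          rfl] at h1
      rw [h1]
      exact hover χ hχ)
    obtain ⟨ψ, hψ, hψe⟩ := Char.exists_irr_deflation hβ L fun l hl => hβL ⟨l, hl⟩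
    exact ⟨⟨ψ, hψ⟩, fun γ => (congrFun heq γ).trans (congrArg (· * τ γ) (hψe γ).symm)⟩
  haveI : Nonempty (IrrCharacter (smallLift ρ ⧸ L)) :=
    ⟨⟨fun _ => 1, Char.isIrrCharacter_one⟩⟩
  choose! b hb using hassoc
  set U' : Set (IrrCharacter (smallLift ρ ⧸ L)) := b '' U with hU'
  have hbinj : Set.InjOn b U := fun χ hχ χ' hχ' h => Subtype.ext (funext fun g => by
    obtain ⟨γ, rfl⟩ := hπs g
    rw [hb χ hχ γ, hb χ' hχ' γ, h])
  have hτ1 : τ 1 ≠ 0 := by
    rw [hτ, Representation.char_one, Module.finrank_fin_fun, Nat.cast_ne_zero]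
    exact (d_pos ρ).ne'
  -- the coefficients
  have hformula : ∀ γ : smallLift ρ, (eIdem U).coeff (π γ)⁻¹ =
      τ 1 * τ γ * ((Nat.card (smallLift ρ ⧸ L) : ℂ) / Nat.card G) *
        blockCoeff U' (QuotientGroup.mk γ : smallLift ρ ⧸ L)⁻¹ := by
    intro γ
    rw [coeff_eIdem, blockCoeff_eq_sum, blockCoeff_eq_sum, ← Finset.sum_filter, ← Finset.sum_filter]
    have h1 : ∑ β ∈ Finset.univ.filter (· ∈ U'), (β : smallLift ρ ⧸ L → ℂ) 1 *
        starRingEnd ℂ ((β : smallLift ρ ⧸ L → ℂ) (QuotientGroup.mk γ)⁻¹) =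
        ∑ χ ∈ Finset.univ.filter (· ∈ U), (b χ : smallLift ρ ⧸ L → ℂ) 1 *
        starRingEnd ℂ ((b χ : smallLift ρ ⧸ L → ℂ) (QuotientGroup.mk γ)⁻¹) := by
      refine (Finset.sum_bij (fun χ _ => b χ) (fun χ hχ => ?_) ?_ ?_ fun _ _ => rfl).symm
      · exact Finset.mem_filter.2 ⟨Finset.mem_univ _, Set.mem_image_of_mem b
          (Finset.mem_filter.1 hχ).2⟩
      · exact fun χ hχ χ' hχ' h =>
          hbinj (Finset.mem_filter.1 hχ).2 (Finset.mem_filter.1 hχ').2 h
      · intro β hβ
        obtain ⟨χ, hχ, rfl⟩ := (Finset.mem_filter.1 hβ).2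
        exact ⟨χ, Finset.mem_filter.2 ⟨Finset.mem_univ _, hχ⟩, rfl⟩
    rw [h1, Finset.mul_sum, Finset.mul_sum, Finset.mul_sum]
    refine Finset.sum_congr rfl fun χ hχ => ?_
    have hχ' := (Finset.mem_filter.1 hχ).2
    have h2 := hb χ hχ' 1
    rw [map_one, QuotientGroup.mk_one] at h2
    have hGc : (Nat.card G : ℂ) ≠ 0 := Nat.cast_ne_zero.2 Nat.card_pos.ne'
    have hHc : (Nat.card (smallLift ρ ⧸ L) : ℂ) ≠ 0 := Nat.cast_ne_zero.2 Nat.card_pos.ne'
    rw [← Char.char_inv (Char.isCharacter_of_isIrr χ.2), inv_inv,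
      ← Char.char_inv (Char.isCharacter_of_isIrr (b χ).2), inv_inv, hb χ hχ' γ, h2]
    field_simp
  -- singular elements of the quotient
  have hU'r : RegSupp p U' := by
    intro h hh
    obtain ⟨γ₀, hγ₀⟩ := QuotientGroup.mk_surjective h⁻¹
    obtain ⟨n, hn⟩ := exists_trace_ne_zero ρ γ₀
    set γ := γ₀ * semb ρ n with hγ
    have hγh : (QuotientGroup.mk γ : smallLift ρ ⧸ L) = h⁻¹ := by
      rw [hγ, QuotientGroup.mk_mul_of_mem γ₀ (MonoidHom.mem_range.2 ⟨n, rfl⟩), hγ₀]
    have hpγ : p ∣ orderOf γ := by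
      rw [← orderOf_inv, ← hγh] at hh
      exact hh.trans (orderOf_map_dvd (QuotientGroup.mk' L) γ)
    have hpπ : p ∣ orderOf (π γ) := by
      have hk : γ ^ orderOf (π γ) ∈ π.ker := by
        rw [MonoidHom.mem_ker, map_pow, pow_orderOf_eq_one]
      have h2 : orderOf γ ∣ orderOf (π γ) * Nat.card π.ker := orderOf_dvd_of_pow_eq_one (by
        rw [pow_mul]
        simpa using congrArg Subtype.val (pow_card_eq_one' (x := (⟨_, hk⟩ : π.ker))))
      exact ((Fact.out : p.Prime).dvd_mul.1 (hpγ.trans h2)).resolve_right hK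
    have h3 := hformula γ
    rw [coeff_eIdem, hU _ (by rwa [orderOf_inv]), hγh, inv_inv] at h3
    refine (mul_eq_zero.1 h3.symm).resolve_left ?_
    exact mul_ne_zero (mul_ne_zero hτ1 hn) (div_ne_zero (Nat.cast_ne_zero.2 Nat.card_pos.ne')
      (Nat.cast_ne_zero.2 Nat.card_pos.ne'))
  -- the central extension of `G / N`
  set q := QuotientGroup.mk' N with hq
  have hLker : L ≤ (q.comp π).ker := by
    rintro _ ⟨n, rfl⟩
    rw [MonoidHom.mem_ker, MonoidHom.comp_apply, hπ, sproj_semb, hq, QuotientGroup.mk'_apply]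
    exact (QuotientGroup.eq_one_iff _).2 n.2
  set f : smallLift ρ ⧸ L →* G ⧸ N := QuotientGroup.lift L (q.comp π) hLker with hf
  have hfs : Function.Surjective f := fun y => by
    obtain ⟨g, rfl⟩ := QuotientGroup.mk_surjective y
    obtain ⟨γ, rfl⟩ := hπs g
    exact ⟨QuotientGroup.mk γ, rfl⟩
  have hfker : f.ker ≤ π.ker.map (QuotientGroup.mk' L) := by
    intro y hy
    obtain ⟨γ, rfl⟩ := QuotientGroup.mk_surjective y
    have h1 : π γ ∈ N := (QuotientGroup.eq_one_iff _).1 (MonoidHom.mem_ker.1 hy)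
    refine ⟨γ * (semb ρ ⟨π γ, h1⟩)⁻¹, ?_, ?_⟩
    · rw [SetLike.mem_coe, MonoidHom.mem_ker, map_mul, map_inv]
      exact mul_inv_cancel (π γ)
    · rw [QuotientGroup.mk'_apply]
      exact QuotientGroup.mk_mul_of_mem γ (inv_mem (MonoidHom.mem_range.2 ⟨_, rfl⟩))
  have hfp : (Nat.card f.ker).Coprime p := by
    refine (Nat.Coprime.coprime_dvd_left ?_
      ((Fact.out : p.Prime).coprime_iff_not_dvd.2 hK).symm)
    exact (Subgroup.card_dvd_of_le hfker).trans (Subgroup.card_map_dvd _ _)
  have hfcen : f.ker ≤ Subgroup.center (smallLift ρ ⧸ L) := fun y hy => by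
    obtain ⟨k, hk, rfl⟩ := hfker hy
    rw [Subgroup.mem_center_iff]
    intro z
    obtain ⟨δ, rfl⟩ := QuotientGroup.mk_surjective z
    rw [QuotientGroup.mk'_apply, ← QuotientGroup.mk_mul, ← QuotientGroup.mk_mul,
      sproj_ker_le_center ρ (MonoidHom.mem_ker.1 hk) δ]
  have hsolvN : IsPSolvable p (G ⧸ N) :=
    PLength.isPSolvable_map (QuotientGroup.mk'_surjective N) hsolv
  have hsolvH : IsPSolvable p (smallLift ρ ⧸ L) :=
    HallHigman.isPSolvable_of_quotient f.ker (Or.inr hfp)
      (PLength.isPSolvable_map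
        (f := (QuotientGroup.quotientKerEquivOfSurjective f hfs).symm.toMonoidHom)
        (QuotientGroup.quotientKerEquivOfSurjective f hfs).symm.surjective hsolvN)
  -- a normal `p`-subgroup of the extension
  set Qb := pCore p (G ⧸ N) with hQb
  haveI : Qb.Normal := Lib.Hall.pCore_normal p
  have hQne : Qb ≠ ⊥ := pCore_ne_bot_of_pSolvable hsolvN hred (by rwa [← Subgroup.index_eq_card])
  set O := pCore p (smallLift ρ ⧸ L) with hO
  haveI : O.Normal := Lib.Hall.pCore_normal p
  have hQO : Qb ≤ O.map f := by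
    set Qt := Qb.comap f with hQt
    haveI : Qt.Normal := Subgroup.Normal.comap inferInstance _
    set g := f.subgroupComap Qb with hg
    have hgs : Function.Surjective g := f.subgroupComap_surjective_of_surjective _ hfs
    haveI : Group.IsNilpotent Qb := (Lib.Hall.isPGroup_pCore p).isNilpotent
    haveI : Group.IsNilpotent Qt := Subgroup.isNilpotent_of_ker_le_center g fun x hx => by
      rw [Subgroup.mem_center_iff]
      intro z
      exact Subtype.ext (Subgroup.mem_center_iff.1
        (hfcen (MonoidHom.mem_ker.2 (congrArg Subtype.val (MonoidHom.mem_ker.1 hx) :))) z)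
    obtain ⟨S⟩ : Nonempty (Sylow p Qt) := inferInstance
    haveI : (S : Subgroup Qt).Normal := Sylow.normal_of_normalizerCondition
      Group.normalizerCondition_of_isNilpotent S
    haveI : (S : Subgroup Qt).Characteristic := S.characteristic_of_normal inferInstance
    have hSO : (S : Subgroup Qt).map Qt.subtype ≤ O :=
      Lib.Hall.le_pCore (S.2.map Qt.subtype)
    intro y hy
    have h1 : ((S.mapSurjective hgs : Sylow p Qb) : Subgroup Qb) = ⊤ := by
      refine ((S.mapSurjective hgs).3 ?_ le_top).symm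
      exact (Lib.Hall.isPGroup_pCore p).of_equiv Subgroup.topEquiv.symm
    obtain ⟨s, hs, hsy⟩ : (⟨y, hy⟩ : Qb) ∈ (S : Subgroup Qt).map g := by
      rw [← Sylow.coe_mapSurjective hgs S, h1]; exact Subgroup.mem_top _
    exact ⟨s, hSO ⟨s, hs, rfl⟩, congrArg Subtype.val hsy⟩
  have hlt : (pPrimeCore p ((smallLift ρ ⧸ L) ⧸ O)).index < N.index := by
    set mk := QuotientGroup.mk' O with hmk
    haveI : (f.ker.map mk).Normal := (inferInstance : f.ker.Normal).map mk (QuotientGroup.mk'_surjective O)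
    have hle : f.ker.map mk ≤ pPrimeCore p ((smallLift ρ ⧸ L) ⧸ O) :=
      Lib.Hall.le_pPrimeCore (hfp.coprime_dvd_left (Subgroup.card_map_dvd _ _))
    have h1 : (f.ker.map mk).index = (O.map f).index := by
      rw [Subgroup.index_map, Subgroup.index_map,
        MonoidHom.range_eq_top.2 (QuotientGroup.mk'_surjective O), MonoidHom.range_eq_top.2 hfs,
        Subgroup.index_top, Subgroup.index_top, mul_one, mul_one, hmk, QuotientGroup.ker_mk', sup_comm]
    have h2 : (pPrimeCore p ((smallLift ρ ⧸ L) ⧸ O)).index ≤ Qb.index := by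
      refine (Nat.le_of_dvd (Nat.pos_of_ne_zero Subgroup.index_ne_zero_of_finite)
        (Subgroup.index_dvd_of_le hle)).trans ?_
      rw [h1]
      exact Nat.le_of_dvd (Nat.pos_of_ne_zero Subgroup.index_ne_zero_of_finite)
        (Subgroup.index_dvd_of_le hQO)
    refine h2.trans_lt ?_
    rw [Subgroup.index_eq_card N, ← Qb.card_mul_index]
    exact lt_mul_left (Nat.pos_of_ne_zero Subgroup.index_ne_zero_of_finite)
      (Qb.one_lt_card_iff_ne_bot.2 hQne)
  have hint : IntR M (eIdem U') :=
    intR_of_quotient hM (Lib.Hall.isPGroup_pCore p) (IH _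
      (PLength.isPSolvable_map (QuotientGroup.mk'_surjective O) hsolvH) hlt) hU'r
  -- integrality
  intro x
  obtain ⟨γ, hγ⟩ := hπs x⁻¹
  rw [show x = (π γ)⁻¹ by rw [hγ, inv_inv], hformula γ]
  refine mul_mem (mul_mem (mul_mem ?_ ?_) ?_) (hint _)
  · exact integral_mem_locRing (Char.isIntegral_character _ _)
  · exact integral_mem_locRing (Char.isIntegral_character _ _)
  · have hcard : (Nat.card (smallLift ρ ⧸ L) : ℂ) / Nat.card G = (Nat.card π.ker : ℂ) * (Nat.card N : ℂ)⁻¹ := by
      have h1 : Nat.card (smallLift ρ) = Nat.card π.ker * Nat.card G := by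
        rw [← π.ker.card_mul_index, Subgroup.index_ker,
          MonoidHom.range_eq_top.2 hπs, Subgroup.card_top]
      have h2 : Nat.card (smallLift ρ) = Nat.card N * Nat.card (smallLift ρ ⧸ L) := by
        rw [← L.card_mul_index, Subgroup.index_eq_card, Nat.card_congr e.toEquiv.symm]
      rw [div_eq_iff (Nat.cast_ne_zero.2 Nat.card_pos.ne'), mul_right_comm,
        eq_mul_inv_iff_mul_eq₀ (Nat.cast_ne_zero.2 Nat.card_pos.ne'), mul_comm]
      exact_mod_cast h2.symm.trans h1
    rw [hcard]
    exact mul_mem (natCast_mem _ _) (inv_natCast_mem_locRing hM hpN)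

open scoped Classical in
/-- The idempotent of `U` is integral. -/
theorem intR_eIdem_of_regSupp (hM : IsPModular p M) : ∀ (m : ℕ) (G : Type u) [Group G] [Finite G],
    IsPSolvable p G → (pPrimeCore p G).index = m →
    ∀ U : Set (IrrCharacter G), RegSupp p U → IntR M (eIdem U) := by
  intro m
  induction m using Nat.strong_induction_on with
  | _ m IH =>
  intro G _ _ hsolv hm U hU
  haveI := Fintype.ofFinite G
  set N := pPrimeCore p G with hNdef
  haveI : N.Normal := Lib.Hall.pPrimeCore_normal p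
  haveI := Fintype.ofFinite N
  have hpN : ¬ p ∣ Nat.card N := Lib.Hall.not_dvd_card_pPrimeCore hM.1
  by_cases hidx : N.index = 1
  · refine intR_eIdem_of_pPrime hM ?_ U
    rwa [← N.card_mul_index, hidx, mul_one]
  have hred : pPrimeCore p (G ⧸ N) = ⊥ := OddLocal.pPrimeCore_quotient_eq_bot p
  have hbelow : Below.{u} p M N.index := fun H _ _ hs hlt U' hU' =>
    IH _ (hm ▸ hlt) H hs rfl U' hU'
  -- the parts over the characters of `N`
  have hsum : eIdem U = ∑ θ : IrrCharacter N, eIdem U * nIdem N {θ} := by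
    rw [← Finset.mul_sum]
    have h1 : ∑ θ : IrrCharacter N, eIdem ({θ} : Set (IrrCharacter N)) = 1 := by
      refine eq_of_omega_eq (fun u x => ?_) isClassCoeff_one fun φ => ?_
      · simp only [coeff_sum_apply]
        exact Finset.sum_congr rfl fun θ _ => isClassCoeff_eIdem _ u x
      · rw [omega_sum, omega_one (deg_ne_zero φ)]
        simp only [omega_eIdem, Set.mem_singleton_iff]
        simp
    have h2 : ∑ θ : IrrCharacter N, nIdem N ({θ} : Set (IrrCharacter N)) = (1 : MonoidAlgebra ℂ G) := by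
      refine alg_ext fun x => ?_
      rw [coeff_sum_apply]
      by_cases hx : x ∈ N
      · have h3 := congrArg (fun a => a.coeff (⟨x, hx⟩ : N)) h1
        simp only [coeff_sum_apply, coeff_one, Subgroup.mk_eq_one] at h3
        simp only [nIdem]
        rw [Finset.sum_congr rfl fun θ _ => coeff_fromSub_of_mem N _ hx, h3, coeff_one]
      · simp only [nIdem]
        rw [Finset.sum_eq_zero fun θ _ => coeff_fromSub_of_not_mem N _ hx, coeff_one,
          if_neg fun h : x = 1 => hx (h ▸ N.one_mem)]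
    rw [h2, mul_one]
  intro x
  rw [hsum, coeff_sum_apply]
  refine sum_mem fun θ _ => ?_
  obtain ⟨b, hb0⟩ : ∃ b : Set (IrrCharacter N), b = {θ} := ⟨_, rfl⟩
  rw [← hb0]
  have hb : IsPBlock M b := by
    rw [hb0, show ({θ} : Set (IrrCharacter N)) = blockOf M (θ : N → ℂ) from Set.ext fun φ =>
      ⟨fun h => (Set.mem_singleton_iff.1 h).symm ▸ mem_blockOf_self θ,
        fun h => Set.mem_singleton_iff.2 (eq_of_sameBlock_pPrime hM hpN h).symm⟩]
    exact isPBlock_blockOf θ
  set T := Char.inertia N (θ : N → ℂ) with hTdef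
  have hNT : N ≤ T := Char.le_inertia N (Char.isClassFunction_of_isIrr θ.2)
  haveI := Fintype.ofFinite T
  have hT : IsStab N b T := fun g => by
    refine ⟨fun h φ hφ => ?_, fun h => ?_⟩
    · rw [hb0, Set.mem_singleton_iff] at hφ
      rw [hb0, Set.mem_singleton_iff, hφ]
      exact Subtype.ext h
    · have h1 := h θ (by rw [hb0]; exact Set.mem_singleton θ)
      rw [hb0, Set.mem_singleton_iff] at h1
      exact congrArg Subtype.val h1
  set e := nIdem N b with he
  have hesupp : ∀ y, y ∉ N → e.coeff y = 0 := fun y hy => coeff_fromSub_of_not_mem N _ hy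
  have heT : ∀ y, y ∉ T → e.coeff y = 0 := nIdem_supp hNT
  have hei : e * e = e := by rw [he, nIdem_mul_nIdem, Set.inter_self]
  by_cases hTtop : T = ⊤
  · -- the invariant case
    have hinv : ∀ g : G, Char.conjChar N g (θ : N → ℂ) = θ := fun g =>
      (show g ∈ T from hTtop ▸ Subgroup.mem_top g)
    have hec : IsClassCoeff e := fun g => invUnder_nIdem hT (hTtop ▸ Subgroup.mem_top g)
    set U₀ : Set (IrrCharacter G) :=
      {χ ∈ U | classInner (fun n : N => (χ : G → ℂ) n) (θ : N → ℂ) ≠ 0} with hU₀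
    have homega : ∀ χ : IrrCharacter G, omega (χ : G → ℂ) e =
        if classInner (fun n : N => (χ : G → ℂ) n) (θ : N → ℂ) ≠ 0 then 1 else 0 := by
      intro χ
      haveI := Fintype.ofFinite (⊤ : Subgroup G)
      have hTt : IsStab N b (⊤ : Subgroup G) := hTtop ▸ hT
      let ψ : IrrCharacter (⊤ : Subgroup G) :=
        ⟨(χ : G → ℂ) ∘ Subgroup.topEquiv, CharClifford.isIrrCharacter_comp_equiv _ χ.2⟩
      have h1 : omega (χ : G → ℂ) e = omega (ψ : (⊤ : Subgroup G) → ℂ) (toSub ⊤ e) := by
        rw [omega_eq_sum, omega_eq_sum]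
        congr 1
        exact (Fintype.sum_equiv Subgroup.topEquiv.toEquiv _ _ fun t => rfl).symm
      rw [h1, he]
      refine (omega_toSub_nIdem hTt le_top ψ).trans (if_congr ?_ rfl rfl)
      simp only [hb0, Set.mem_singleton_iff, exists_eq_left]
      rfl
    have hw : eIdem U * e = eIdem U₀ := by
      refine eq_of_omega_eq ((isClassCoeff_eIdem U).mul hec) (isClassCoeff_eIdem U₀) fun χ => ?_
      rw [omega_mul χ (isClassCoeff_eIdem U), omega_eIdem, omega_eIdem, homega χ, hU₀]
      simp only [Set.mem_setOf_eq]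
      split_ifs <;> simp_all
    have hU₀r : RegSupp p U₀ := fun y hy => by
      rw [← coeff_eIdem, ← hw]
      exact coeff_mul_eq_zero hpN hU hesupp hy
    rw [hw]
    exact intR_of_invariant hM hsolv N hpN hred hidx hbelow θ hinv hU₀r (fun χ hχ => hχ.2) x
  -- reduction to the inertia group
  set w := eIdem U * e with hw
  have hwsupp : ∀ y, y ∉ T → w.coeff y = 0 := by
    intro y hy
    have h1 : w = ∑ g : G, e * single g ((eIdem U).coeff g) * e := by
      rw [← Finset.sum_mul, ← Finset.mul_sum, ← eq_sum_single, hw,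
        ((isClassCoeff_eIdem U).commute e).symm.eq, mul_assoc, hei]
    rw [h1, coeff_sum_apply]
    refine Finset.sum_eq_zero fun g _ => ?_
    have h2 : e * single g ((eIdem U).coeff g) =
        single g ((eIdem U).coeff g) * nIdem N (conjIrr N g '' b) := alg_ext fun v => by
      rw [MonoidAlgebra.coeff_mul_single_apply, MonoidAlgebra.coeff_single_mul_apply, mul_comm,
        ← coeff_nIdem_conj g b]
      congr 2
      group
    rw [h2, mul_assoc, he, nIdem_mul_nIdem]
    by_cases hg : g ∈ T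
    · rw [image_conjIrr_of_mem hT hg, Set.inter_self, ← he, MonoidAlgebra.coeff_single_mul_apply,
        heT _ fun h => hy (by simpa using T.mul_mem hg h), mul_zero]
    · rw [Set.inter_comm, inter_image_conjIrr_eq_empty hb hT hg, nIdem, eIdem_empty, fromSub_zero,
        mul_zero]
      rfl
  set UT : Set (IrrCharacter T) :=
    {ψ | ∃ h : IsOver b ψ, (⟨_, isIrr_indFun hb hT hNT h⟩ : IrrCharacter G) ∈ U} with hUT
  have hwT : toSub T w = eIdem UT := by
    have hsplit : toSub T w = toSub T (eIdem U) * toSub T e := toSub_mul_of_supp T _ heT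
    refine eq_of_omega_eq (hsplit ▸ (isClassCoeff_toSub (isClassCoeff_eIdem U)).mul
      (isClassCoeff_toSub_nIdem hT)) (isClassCoeff_eIdem UT) fun ψ => ?_
    rw [omega_eIdem]
    by_cases hψ : IsOver b ψ
    · set X : IrrCharacter G := ⟨_, isIrr_indFun hb hT hNT hψ⟩ with hX
      have hsum' : pair (X : G → ℂ) (e * w) = pair (ψ : T → ℂ) (toSub T w) := by
        rw [eq_sum_single w, Finset.mul_sum, pair_sum]
        conv_rhs => rw [← eq_sum_single w, pair_eq_sum]
        refine (Finset.sum_of_injOn (fun t : T => (t : G)) ?_ ?_ ?_ ?_).symm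
        · intro a _ c _ h; exact Subtype.ext h
        · intro a _; exact Finset.mem_coe.2 (Finset.mem_univ _)
        · intro v _ hv
          rw [hwsupp v fun h => hv ⟨⟨v, h⟩, Finset.mem_coe.2 (Finset.mem_univ _), rfl⟩,
            MonoidAlgebra.single_zero, mul_zero, pair_zero]
        · intro t _
          rw [coeff_toSub, show (single (t : G) (w.coeff t) : MonoidAlgebra ℂ G) =
              w.coeff t • single (t : G) 1 by simp, mul_smul_comm, pair_smul,
            he, hX, pair_indFun_nIdem hb hT hNT hψ t.2]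
      have hew : e * w = w := by
        rw [hw, ← mul_assoc, ← ((isClassCoeff_eIdem U).commute e).eq, mul_assoc, hei]
      have he1 : pair (X : G → ℂ) e = (ψ : T → ℂ) 1 := by
        have h3 := pair_indFun_nIdem hb hT hNT hψ T.one_mem
        rwa [← MonoidAlgebra.one_def, mul_one] at h3
      rw [omega, ← hsum', hew, hw, pair_mul_of_class X.2 (isClassCoeff_eIdem U), he1, omega_eIdem,
        mul_div_assoc, div_self (deg_ne_zero ψ), mul_one]
      by_cases hXU : X ∈ U
      · rw [if_pos hXU, if_pos (show ψ ∈ UT from ⟨hψ, hXU⟩)]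
      · rw [if_neg hXU, if_neg (fun h : ψ ∈ UT => hXU (h.elim fun _ a => a))]
    · rw [if_neg (fun h : ψ ∈ UT => h.elim fun a _ => hψ a), hsplit, he,
        ((isClassCoeff_toSub (isClassCoeff_eIdem U)).commute _).eq,
        omega_mul ψ (isClassCoeff_toSub_nIdem hT), omega_toSub_nIdem hT hNT,
        if_neg fun h => hψ ((isOver_iff hT hNT ψ).2 h), zero_mul]
  have hUTr : RegSupp p UT := fun t ht => by
    rw [← coeff_eIdem, ← hwT, coeff_toSub]
    exact coeff_mul_eq_zero hpN hU hesupp (by rwa [orderOf_submonoid])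
  have hlt : (pPrimeCore p T).index < N.index := by
    have hle : N.subgroupOf T ≤ pPrimeCore p T := by
      haveI : (N.subgroupOf T).Normal := (inferInstance : N.Normal).subgroupOf T
      refine Lib.Hall.le_pPrimeCore ?_
      rw [Nat.card_congr (Subgroup.subgroupOfEquivOfLe hNT).toEquiv]
      exact ((Fact.out : p.Prime).coprime_iff_not_dvd.2 hpN).symm
    refine (Nat.le_of_dvd (Nat.pos_of_ne_zero Subgroup.index_ne_zero_of_finite)
      (Subgroup.index_dvd_of_le hle)).trans_lt ?_
    rw [← Subgroup.relIndex_mul_index hNT]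
    refine lt_mul_of_one_lt_right ?_ (Subgroup.one_lt_index_of_ne_top hTtop)
    exact Nat.pos_of_ne_zero Subgroup.index_ne_zero_of_finite
  have hint := hbelow T (GenStruct.PHall.isPSolvable_subgroup hsolv T) hlt UT hUTr
  show w.coeff x ∈ locRing M
  by_cases hxT : x ∈ T
  · have := hint ⟨x, hxT⟩
    rwa [← hwT, coeff_toSub] at this
  · rw [hwsupp x hxT]
    exact zero_mem _

end Cfsg.Agent.Lib.Block.KiyotaOkuyama
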